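import Mathlib.AlgebraicGeometry.Morphisms.FiniteType
import Mathlib.AlgebraicGeometry.Stalk
import Mathlib.RingTheory.FiniteType

/-! Morphisms to a locally finite type scheme are determined near a point by the map on the local ring. -/

universe u

open AlgebraicGeometry CategoryTheory TopologicalSpace

namespace Groth.Agent.RatMapLib

theorem exists_eq_of_fromSpecStalk_comp_eq {X Y S : Scheme.{u}} (sY : Y ⟶ S) [LocallyOfFiniteType sY]
    (a b : X ⟶ Y) (hab : a ≫ sY = b ≫ sY) {x : X}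
    (h : X.fromSpecStalk x ≫ a = X.fromSpecStalk x ≫ b) :
    ∃ U : X.Opens, x ∈ U ∧ U.ι ≫ a = U.ι ≫ b := by
  classical
  have hxy : a.base x = b.base x := by
    have e := congrArg (fun m : Spec (X.presheaf.stalk x) ⟶ Y => m.base (IsLocalRing.closedPoint (X.presheaf.stalk x))) h
    simpa [Scheme.Hom.comp_apply, Scheme.fromSpecStalk_closedPoint] using e
  obtain ⟨W, hW, hsW, -⟩ := exists_isAffineOpen_mem_and_subset (x := sY.base (a.base x)) (U := ⊤) trivial
  obtain ⟨V, hV, hyV, hVW⟩ := exists_isAffineOpen_mem_and_subset (x := a.base x) (U := sY ⁻¹ᵁ W) hsW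
  obtain ⟨U, hU, hxU, hUab⟩ := exists_isAffineOpen_mem_and_subset (x := x) (U := a ⁻¹ᵁ V ⊓ b ⁻¹ᵁ V)
    ⟨hyV, show b.base x ∈ V from hxy ▸ hyV⟩
  have ha : U ≤ a ⁻¹ᵁ V := fun z hz => (hUab hz).1
  have hb : U ≤ b ⁻¹ᵁ V := fun z hz => (hUab hz).2
  have hgerm : a.appLE V U ha ≫ X.presheaf.germ U x hxU = b.appLE V U hb ≫ X.presheaf.germ U x hxU := by
    refine Spec.map_injective ?_
    rw [← cancel_mono hV.fromSpec, Spec.map_comp, Spec.map_comp, Category.assoc, Category.assoc,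
      IsAffineOpen.SpecMap_appLE_fromSpec a hV hU ha, IsAffineOpen.SpecMap_appLE_fromSpec b hV hU hb,
      ← Category.assoc, ← Category.assoc]
    change hU.fromSpecStalk hxU ≫ a = hU.fromSpecStalk hxU ≫ b
    rw [hU.fromSpecStalk_eq_fromSpecStalk hxU, h]
  have hbase : sY.appLE W V hVW ≫ a.appLE V U ha = sY.appLE W V hVW ≫ b.appLE V U hb := by
    rw [Scheme.Hom.appLE_comp_appLE, Scheme.Hom.appLE_comp_appLE]
    congr 1
  have hft : (sY.appLE W V hVW).hom.FiniteType := LocallyOfFiniteType.finiteType_appLE sY hW hV hVW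
  algebraize [(sY.appLE W V hVW).hom]
  obtain ⟨T, hT⟩ := Algebra.FiniteType.out (R := Γ(S, W)) (A := Γ(Y, V))
  have hloc : ∀ t ∈ T, ∃ (U' : X.Opens) (_ : x ∈ U') (i : U' ≤ U),
      X.presheaf.map (homOfLE i).op (a.appLE V U ha t) = X.presheaf.map (homOfLE i).op (b.appLE V U hb t) := by
    intro t _
    obtain ⟨U', hx', i, i', e⟩ := TopCat.Presheaf.germ_eq X.presheaf x hxU hxU _ _
      (ConcreteCategory.congr_hom hgerm t)
    exact ⟨U', hx', i.le, e⟩
  choose U' hxU' hU'le hU'eq using hloc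
  have hopen : IsOpen (⋂ t : T, (U' t.1 t.2 : Set X)) := isOpen_iInter_of_finite fun t => (U' t.1 t.2).2
  obtain ⟨U₁, hU₁, hxU₁, hU₁le⟩ := exists_isAffineOpen_mem_and_subset (x := x)
    (U := ⟨_, hopen⟩ ⊓ U) ⟨Set.mem_iInter.2 fun t => hxU' t.1 t.2, hxU⟩
  have hU₁U : U₁ ≤ U := fun z hz => (hU₁le hz).2
  refine ⟨U₁, hxU₁, ?_⟩
  have key : a.appLE V U ha ≫ X.presheaf.map (homOfLE hU₁U).op = b.appLE V U hb ≫ X.presheaf.map (homOfLE hU₁U).op := by
    ext v
    have hv : v ∈ Algebra.adjoin Γ(S, W) (T : Set Γ(Y, V)) := hT ▸ Algebra.mem_top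
    induction hv using Algebra.adjoin_induction with
    | mem t ht =>
      have hle : U₁ ≤ U' t ht := fun z hz => Set.mem_iInter.1 (hU₁le hz).1 ⟨t, ht⟩
      have e := congrArg (X.presheaf.map (homOfLE hle).op) (hU'eq t ht)
      simp only [← ConcreteCategory.comp_apply, Category.assoc, ← Functor.map_comp, ← op_comp, homOfLE_comp] at e
      exact e
    | algebraMap r =>
      have e := ConcreteCategory.congr_hom hbase r
      exact congrArg (X.presheaf.map (homOfLE hU₁U).op) e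
    | add p q _ _ hp hq => rw [map_add, map_add, hp, hq]
    | mul p q _ _ hp hq => rw [map_mul, map_mul, hp, hq]
  rw [Scheme.Hom.appLE_map, Scheme.Hom.appLE_map] at key
  rw [← cancel_epi hU₁.isoSpec.inv, ← Category.assoc, ← Category.assoc, IsAffineOpen.isoSpec_inv_ι,
    ← IsAffineOpen.SpecMap_appLE_fromSpec a hV hU₁ (hU₁U.trans ha),
    ← IsAffineOpen.SpecMap_appLE_fromSpec b hV hU₁ (hU₁U.trans hb), key]

end Groth.Agent.RatMapLib
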